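import Groth.Agent.AlbQuotLib.Albanese
import Groth.Agent.GrpSchLib.NormalQuot
import Groth.Agent.GrpSchLib.AntiAffineHom
import Groth.Agent.S18068
import Mathlib.AlgebraicGeometry.Morphisms.Proper
import Mathlib.FieldTheory.IsAlgClosed.Basic

/-! A homomorphism from a smooth connected affine group to a proper group is trivial. -/

set_option backward.isDefEq.respectTransparency false
set_option backward.isDefEq.respectTransparency.types false

universe u

open CategoryTheory Limits AlgebraicGeometry MonoidalCategory CartesianMonoidalCategory MonObj TopologicalSpace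
open Groth.Agent.GrpSchLib.BundleQuot

noncomputable section

namespace Groth.Agent.AffToProper

variable {k : Type u} [Field k] [IsAlgClosed k]

theorem eq_one {N B : Over (Spec (CommRingCat.of k))} [GrpObj N] [Smooth N.hom] [QuasiCompact N.hom]
    [ConnectedSpace N.left] [IsAffine N.left] [GrpObj B] [IsProper B.hom] (f : N ⟶ B) [IsMonHom f] : f = 1 := by
  obtain ⟨K, _, i, hi, ci, hn, hk⟩ := GrpSchLib.exists_kernel f
  haveI := hi; haveI := ci
  obtain ⟨Q, _, q, hq, hQaff, hQlft, hqf, hqs, hkq⟩ := GrpSchLib.NormalQuot.exists_quot N K i hn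
  haveI := hq; haveI := hqf; haveI := hqs; haveI := hQaff; haveI := hQlft
  haveI : IsNoetherian (Spec (CommRingCat.of k)) := inferInstance
  have hcov : Cover q := GrpSchLib.NilpQuot.cover_of_lft q
  have hdiff : ∀ {T : Over (Spec (CommRingCat.of k))} (a b : T ⟶ N), a ≫ q = b ≫ q → a ≫ f = b ≫ f := by
    intro T a b e
    have h1 : (a⁻¹ * b) ≫ q = 1 := by rw [MonObj.mul_comp, GrpObj.inv_comp, e, inv_mul_cancel]
    have h2 := congrArg (· ≫ f) (hkq.lift_fst (a⁻¹ * b) (toUnit _) h1)
    simp only [Category.assoc, show i ≫ f = 1 from hk.w, MonObj.comp_one, MonObj.mul_comp, GrpObj.inv_comp] at h2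
    exact inv_mul_eq_one.mp h2.symm
  have hc : FpqcDescLib.IsCosetMap i q := fun T a b => by
    constructor
    · intro e
      refine ⟨hkq.lift (a⁻¹ * b) (toUnit _) (by rw [MonObj.mul_comp, GrpObj.inv_comp, e, inv_mul_cancel]; rfl), ?_⟩
      rw [IsPullback.lift_fst, mul_inv_cancel_left]
    · rintro ⟨n, rfl⟩
      rw [MonObj.mul_comp, Category.assoc, show i ≫ q = 1 from hkq.w, MonObj.comp_one, _root_.mul_one]
  haveI := hcov
  haveI : LocallyOfFinitePresentation q.left := hcov.2.2
  obtain ⟨j, ⟨hj, hjm⟩, -⟩ := FpqcDescLib.exists_unique_hom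
    (FpqcDescLib.covers_of_isCovering (FpqcDescLib.isCovering_of_lfp q.left)) hc f (hk.w)
  haveI := hjm
  obtain ⟨-, hQqc, hQsm⟩ := GrpQuotLib.props_of_cover hcov
  haveI : QuasiCompact Q.hom := hQqc inferInstance
  haveI : Smooth Q.hom := hQsm inferInstance
  haveI : ConnectedSpace Q.left := q.left.surjective.connectedSpace q.left.continuous
  haveI : Mono j := ⟨fun {T} a b hab => by
    obtain ⟨T₁, c₁, a', hc₁, ha⟩ := hcov.lift a
    obtain ⟨T₂, c₂, b', hc₂, hb⟩ := hcov.lift (c₁ ≫ b)
    have h1 : (c₂ ≫ a') ≫ f = b' ≫ f := by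
      rw [← hj, ← Category.assoc, ← Category.assoc, hb, Category.assoc c₂ a' q, ha]
      simp only [Category.assoc, hab]
    have h2 : ((c₂ ≫ a')⁻¹ * b') ≫ f = 1 := by
      rw [MonObj.mul_comp, GrpObj.inv_comp, h1, inv_mul_cancel]
    have h2' := congrArg (· ≫ q) (hk.lift_fst _ (toUnit _) h2)
    simp only [Category.assoc, show i ≫ q = 1 from hkq.w, MonObj.comp_one, MonObj.mul_comp, GrpObj.inv_comp] at h2'
    have h3 : c₂ ≫ a' ≫ q = b' ≫ q := inv_mul_eq_one.mp h2'.symm
    refine (hc₁.hasLocSec).hom_ext ((hc₂.hasLocSec).hom_ext ?_)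
    rw [← hb, ← h3, ha]⟩
  haveI : QuasiCompact j.left := by
    haveI : QuasiCompact (j.left ≫ B.hom) := by rw [Over.w j]; infer_instance
    exact QuasiCompact.of_comp j.left B.hom
  haveI : IsClosedImmersion j.left := S3036.result k Q B j
  haveI : IsProper Q.hom := by rw [← Over.w j]; infer_instance
  haveI := S18068.isIntegral_grp Q
  have hQ' : Function.Bijective Q.hom.appTop := by
    letI : Field Γ(Q.left, ⊤) := (isField_of_universallyClosed k Q.hom).toField
    letI : Field Γ(Spec (CommRingCat.of k), ⊤) :=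
      ((Scheme.ΓSpecIso (CommRingCat.of k)).commRingCatIsoToRingEquiv.toMulEquiv.isField (Field.toIsField k)).toField
    letI := Q.hom.appTop.hom.toAlgebra
    haveI : Algebra.IsIntegral Γ(Spec (CommRingCat.of k), ⊤) Γ(Q.left, ⊤) :=
      ⟨isIntegral_appTop_of_universallyClosed Q.hom⟩
    haveI : IsAlgClosed Γ(Spec (CommRingCat.of k), ⊤) :=
      IsAlgClosed.of_ringEquiv k _ (Scheme.ΓSpecIso (CommRingCat.of k)).commRingCatIsoToRingEquiv.symm
    exact IsAlgClosed.algebraMap_bijective_of_isIntegral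
  have hid : 𝟙 Q = (1 : Q ⟶ Q) := by
    rw [GrpSchLib.AntiAffine.eq_const_of_isAffine hQ' (𝟙 Q) η[Q], Category.comp_id]
    rfl
  rw [← hj, ← Category.id_comp j, hid, MonObj.one_comp, MonObj.comp_one]

end Groth.Agent.AffToProper
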